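import Mathlib

/-!
Bounds on a binomial coefficient all of whose prime factors are at most the lower index, towards
the Sylvester–Schur theorem.
-/

set_option autoImplicit false

namespace CfsgLib.Sylvester

/-- All prime factors of `n.choose k` are at most `k`. -/
def Smooth (n k : ℕ) : Prop := ∀ p : ℕ, p.Prime → p ∣ n.choose k → p ≤ k

theorem not_smooth_of_dvd {n k p j : ℕ} (hp : p.Prime) (hkp : k < p) (hkn : k ≤ n) (hj : j < k)
    (hd : p ∣ n - j) : ¬ Smooth n k := by
  intro h
  have h1 : p ∣ n.descFactorial k := by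
    rw [Nat.descFactorial_eq_prod_range]
    exact hd.trans (Finset.dvd_prod_of_mem _ (Finset.mem_range.2 hj))
  rw [Nat.descFactorial_eq_factorial_mul_choose] at h1
  rcases hp.dvd_mul.1 h1 with h2 | h2
  · exact absurd (hp.dvd_factorial.1 h2) (by omega)
  · exact absurd (h p hp h2) (by omega)

theorem not_smooth_of_prime_window {n k p : ℕ} (hp : p.Prime) (hn : 2 * k ≤ n) (h1 : n - k < p)
    (h2 : p ≤ n) : ¬ Smooth n k :=
  not_smooth_of_dvd (j := n - p) hp (by omega) (by omega) (by omega) (by rw [Nat.sub_sub_self h2])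

theorem pow_le_mul_choose (n k : ℕ) (hk : k ≤ n) : n ^ k ≤ k ^ k * n.choose k := by
  refine Nat.le_of_mul_le_mul_left ?_ k.factorial_pos
  calc k.factorial * n ^ k = ∏ i ∈ Finset.range k, (n * (k - i)) := by
        rw [Finset.prod_mul_distrib, ← Nat.descFactorial_eq_prod_range, Nat.descFactorial_self,
          Finset.prod_const, Finset.card_range, mul_comm]
    _ ≤ ∏ i ∈ Finset.range k, (k * (n - i)) := by
        refine Finset.prod_le_prod' fun i hi => ?_
        rw [Nat.mul_sub, Nat.mul_sub, mul_comm k n]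
        exact Nat.sub_le_sub_left (Nat.mul_le_mul_right i hk) _
    _ = k ^ k * n.descFactorial k := by
        rw [Finset.prod_mul_distrib, Finset.prod_const, Finset.card_range,
          Nat.descFactorial_eq_prod_range]
    _ = _ := by rw [Nat.descFactorial_eq_factorial_mul_choose]; ring

theorem choose_eq_prod {n k : ℕ} (hk : k ≤ n) :
    n.choose k = ∏ p ∈ (n.choose k).primeFactors, p ^ (n.choose k).factorization p :=
  (Nat.prod_factorization_pow_eq_self (Nat.choose_ne_zero hk)).symm

theorem choose_le_pow_primeCounting {n k : ℕ} (hn : 0 < n) (hk : k ≤ n) (h : Smooth n k) :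
    n.choose k ≤ n ^ k.primeCounting := by
  rw [choose_eq_prod hk]
  refine (Finset.prod_le_pow_card _ _ n fun p _ => Nat.pow_factorization_choose_le hn).trans
    (Nat.pow_le_pow_right hn ?_)
  rw [← Nat.primesLE_card_eq_primeCounting]
  refine Finset.card_le_card fun p hp => ?_
  obtain ⟨hp, hd, -⟩ := Nat.mem_primeFactors.1 hp
  exact Nat.mem_primesLE.2 ⟨h p hp hd, hp⟩

/-- Large primes appear once, those above `n / 3` not at all. -/
theorem choose_le_sqrt {n k j : ℕ} (hn : 0 < n) (hk : 2 * k ≤ n) (h : Smooth n k) (h2 : 2 ≤ j)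
    (hj : j = k ∨ n < 3 * (j + 1)) :
    n.choose k ≤ n ^ n.sqrt.primeCounting * 4 ^ j := by
  have hc : n.choose k ≠ 0 := Nat.choose_ne_zero (by omega)
  rw [choose_eq_prod (n := n) (k := k) (by omega),
    ← Finset.prod_filter_mul_prod_filter_not (n.choose k).primeFactors (fun p => p ≤ n.sqrt)]
  refine Nat.mul_le_mul ?_ ?_
  · refine (Finset.prod_le_pow_card _ _ n fun p _ => Nat.pow_factorization_choose_le hn).trans
      (Nat.pow_le_pow_right hn ?_)
    rw [← Nat.primesLE_card_eq_primeCounting]
    refine Finset.card_le_card fun p hp => ?_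
    obtain ⟨hp, hle⟩ := Finset.mem_filter.1 hp
    exact Nat.mem_primesLE.2 ⟨hle, Nat.prime_of_mem_primeFactors hp⟩
  · refine le_trans ?_ (primorial_le_four_pow j)
    rw [primorial_eq_prod_primesLE]
    refine (Finset.prod_le_prod' fun p hp => ?_).trans
      (Finset.prod_le_prod_of_subset_of_one_le' (fun p hp => ?_) fun p hp _ =>
        (Nat.prime_of_mem_primesLE hp).one_le)
    · obtain ⟨hp, hlt⟩ := Finset.mem_filter.1 hp
      have hv : (n.choose k).factorization p ≤ 1 :=
        Nat.factorization_choose_le_one (Nat.sqrt_lt'.1 (not_le.1 hlt))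
      exact (Nat.pow_le_pow_right (Nat.prime_of_mem_primeFactors hp).pos hv).trans_eq (pow_one p)
    · obtain ⟨hp, hlt⟩ := Finset.mem_filter.1 hp
      obtain ⟨hpp, hd, -⟩ := Nat.mem_primeFactors.1 hp
      have hpk := h p hpp hd
      refine Nat.mem_primesLE.2 ⟨?_, hpp⟩
      by_contra hjp
      have h0 := Nat.factorization_choose_of_lt_three_mul (n := n) (k := k) (p := p) (by omega)
        hpk (by omega) (by omega)
      have := hpp.factorization_pos_of_dvd hc hd
      omega

theorem choose_three_mul_ge (j : ℕ) : 27 ^ j ≤ 2 * (j + 1) * 4 ^ j * (3 * j).choose j := by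
  induction j with
  | zero => simp
  | succ j ih =>
    rcases Nat.eq_zero_or_pos j with hj | hj
    · subst hj; decide
    have a1 := Nat.add_one_mul_choose_eq (3 * j + 2) j
    have a2 := Nat.choose_mul_succ_eq (3 * j + 1) j
    have a3 := Nat.choose_mul_succ_eq (3 * j) j
    rw [show 3 * j + 2 + 1 = 3 * (j + 1) by ring] at a1
    rw [show 3 * j + 1 + 1 - j = 2 * j + 2 by omega, show 3 * j + 1 + 1 = 3 * j + 2 by rfl] at a2
    rw [show 3 * j + 1 - j = 2 * j + 1 by omega] at a3
    have key : (3 * (j + 1)).choose (j + 1) * ((2 * j + 2) * (2 * j + 1)) =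
        3 * (3 * j + 2) * (3 * j + 1) * (3 * j).choose j := by
      refine Nat.eq_of_mul_eq_mul_right (Nat.add_one_pos j) ?_
      calc (3 * (j + 1)).choose (j + 1) * ((2 * j + 2) * (2 * j + 1)) * (j + 1)
          = (3 * (j + 1)).choose (j + 1) * (j + 1) * ((2 * j + 2) * (2 * j + 1)) := by ring
        _ = 3 * (j + 1) * ((3 * j + 2).choose j * (2 * j + 2)) * (2 * j + 1) := by rw [← a1]; ring
        _ = 3 * (j + 1) * (3 * j + 2) * ((3 * j + 1).choose j * (2 * j + 1)) := by rw [← a2]; ring
        _ = _ := by rw [← a3]; ring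
    have hpoly : 27 * (j + 1) * ((2 * j + 2) * (2 * j + 1)) ≤
        (j + 2) * 4 * (3 * (3 * j + 2) * (3 * j + 1)) := by nlinarith
    refine Nat.le_of_mul_le_mul_right ?_ (show 0 < (j + 1) * ((2 * j + 2) * (2 * j + 1)) by positivity)
    calc 27 ^ (j + 1) * ((j + 1) * ((2 * j + 2) * (2 * j + 1)))
        = 27 ^ j * (27 * (j + 1) * ((2 * j + 2) * (2 * j + 1))) := by ring
      _ ≤ 2 * (j + 1) * 4 ^ j * (3 * j).choose j * ((j + 2) * 4 * (3 * (3 * j + 2) * (3 * j + 1))) :=
          Nat.mul_le_mul ih hpoly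
      _ = 2 * (j + 1) * 4 ^ (j + 1) * (j + 2) * (3 * (3 * j + 2) * (3 * j + 1) * (3 * j).choose j) := by
          ring
      _ = _ := by rw [← key]; ring

theorem choose_le_choose_of_le {n j k : ℕ} (h : j ≤ k) (hk : 2 * k ≤ n) :
    n.choose j ≤ n.choose k := by
  induction k with
  | zero => rw [Nat.le_zero.1 h]
  | succ k ih =>
    rcases h.lt_or_eq with h | rfl
    · exact (ih (by omega) (by omega)).trans (Nat.choose_le_succ_of_lt_half_left (by omega))
    · exact le_rfl

theorem primeCounting_thirty {k : ℕ} (hk : 30 ≤ k) : 30 * k.primeCounting ≤ 8 * k + 360 := by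
  have h := Nat.primeCounting'_add_le (a := 30) (k := 31) (by norm_num) (by norm_num) (k - 30)
  rw [show 31 + (k - 30) = k + 1 by omega, ← Nat.primeCounting_eq_primeCounting'_succ,
    show Nat.totient 30 = 8 by decide] at h
  have h31 : Nat.primeCounting' 31 ≤ 12 := by decide
  omega

end CfsgLib.Sylvester
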