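import Cfsg.Agent.Lib.Sylvester.Basic

/-!
Certificates for the Sylvester–Schur theorem below 4096, by kernel evaluation.
-/

set_option autoImplicit false

namespace CfsgLib.Sylvester

/-- No divisor in `[d, d + f)` up to the square root. -/
def noDiv : ℕ → ℕ → ℕ → Bool
  | 0, _, _ => false
  | f + 1, d, n => Nat.blt n (d * d) || (n % d != 0 && noDiv f (d + 1) n)

theorem prime_of_noDiv : ∀ f d n, noDiv f d n = true →
    ∀ m, d ≤ m → m * m ≤ n → ¬ m ∣ n := by
  intro f
  induction f with
  | zero => intro d n h; simp [noDiv] at h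
  | succ f ih =>
    intro d n h m hdm hmn hd
    simp only [noDiv, Bool.or_eq_true, Bool.and_eq_true, Nat.blt_eq, bne_iff_ne] at h
    rcases h with h | ⟨h1, h2⟩
    · exact absurd (h.trans_le (Nat.mul_le_mul hdm hdm)) (not_lt.2 hmn)
    · rcases hdm.lt_or_eq with hlt | rfl
      · exact ih _ _ h2 m hlt hmn hd
      · exact h1 (Nat.mod_eq_zero_of_dvd hd)

theorem noDiv_of_prime : ∀ f d n, n.Prime → 2 ≤ d → n < (d + f - 1) ^ 2 → 0 < f → noDiv f d n = true := by
  intro f
  induction f with
  | zero => intro d n _ _ _ h; omega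
  | succ f ih =>
    intro d n hp hd hn _
    simp only [noDiv, Bool.or_eq_true, Bool.and_eq_true, Nat.blt_eq, bne_iff_ne]
    rcases lt_or_ge n (d * d) with h | h
    · exact Or.inl h
    · refine Or.inr ⟨fun he => ?_, ih _ _ hp (by omega) (by rwa [show d + 1 + f - 1 = d + (f + 1) - 1 by omega]) ?_⟩
      · rcases hp.eq_one_or_self_of_dvd d (Nat.dvd_of_mod_eq_zero he) with e | e
        · omega
        · subst e; nlinarith
      · by_contra hf
        rw [show f = 0 by omega] at hn
        simp only [zero_add, Nat.add_sub_cancel] at hn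
        nlinarith

/-- Trial division. -/
def isP (n : ℕ) : Bool := Nat.ble 2 n && noDiv n 2 n

theorem prime_of_isP {n : ℕ} (h : isP n = true) : n.Prime := by
  simp only [isP, Bool.and_eq_true, Nat.ble_eq] at h
  exact Nat.prime_def_le_sqrt.2
    ⟨h.1, fun m h2 hm => prime_of_noDiv _ _ _ h.2 m h2 (Nat.le_sqrt.1 hm)⟩

theorem isP_of_prime {n : ℕ} (h : n.Prime) : isP n = true := by
  simp only [isP, Bool.and_eq_true, Nat.ble_eq]
  exact ⟨h.two_le, noDiv_of_prime _ _ _ h le_rfl (by rw [show 2 + n - 1 = n + 1 by omega]; nlinarith) h.pos⟩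

/-- Every window `(a g, a g + g]`, `a < c`, has a prime. -/
def windows (g c : ℕ) : Bool :=
  (List.range c).all fun a => (List.range' (a * g + 1) g).any isP

theorem exists_prime_of_windows {g c n k : ℕ} (h : windows g c = true) (hg : 0 < g) (hk : 2 * g ≤ k)
    (hkn : k ≤ n) (hn : n ≤ c * g) : ∃ p, p.Prime ∧ n - k < p ∧ p ≤ n := by
  simp only [windows, List.all_eq_true, List.any_eq_true, List.mem_range, List.mem_range'_1] at h
  set a := (n - k) / g + 1
  have h1 : (n - k) / g * g ≤ n - k := Nat.div_mul_le_self _ _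
  have h2 : n - k < (n - k) / g * g + g := by
    have := Nat.lt_div_mul_add (a := n - k) hg
    exact this
  have h3 : a * g = (n - k) / g * g + g := by ring
  have hac : a < c := by
    by_contra hc
    have := Nat.mul_le_mul_right g (not_lt.1 hc)
    omega
  obtain ⟨p, hp, hpp⟩ := h a hac
  exact ⟨p, prime_of_isP hpp, by omega, by omega⟩

/-- The primes up to `k`. -/
def cnt (k : ℕ) : ℕ := ((List.range (k + 1)).filter isP).length

theorem primeCounting_le_cnt (k : ℕ) : k.primeCounting ≤ cnt k := by
  rw [← Nat.primesLE_card_eq_primeCounting]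
  calc (Nat.primesLE k).card ≤ ((List.range (k + 1)).filter isP).toFinset.card := by
        refine Finset.card_le_card fun p hp => ?_
        obtain ⟨hle, hp⟩ := Nat.mem_primesLE.1 hp
        simp [isP_of_prime hp, Nat.lt_succ_iff.2 hle]
    _ ≤ _ := List.toFinset_card_le _

/-- A witness that `n.choose k` is not smooth. -/
def good (n k K : ℕ) : Bool :=
  ((List.range k).any fun j => Nat.blt k (n - j) && isP (n - j)) ||
    (List.range k).any fun j => K % (n - j) != 0

theorem not_smooth_of_good {n k : ℕ} (hn : n < 2 ^ 12) (hk : k < n)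
    (h : good n k (k.factorial ^ 12) = true) : ¬ Smooth n k := by
  simp only [good, Bool.or_eq_true, List.any_eq_true, List.mem_range, bne_iff_ne, Bool.and_eq_true,
    Nat.blt_eq] at h
  rcases h with ⟨j, hj, hlt, hp⟩ | ⟨j, hj, hne⟩
  · exact not_smooth_of_dvd (prime_of_isP hp) hlt (by omega) hj dvd_rfl
  obtain ⟨p, hp, hpk, hd⟩ : ∃ p, p.Prime ∧ k < p ∧ p ∣ n - j := by
    by_contra hno
    refine hne (Nat.mod_eq_zero_of_dvd ?_)
    refine (Nat.factorization_le_iff_dvd (by omega) (pow_ne_zero _ k.factorial_ne_zero)).1 fun p => ?_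
    by_cases hp : p.Prime
    · by_cases hd : p ∣ n - j
      · have hpk : p ≤ k := not_lt.1 fun h' => hno ⟨p, hp, h', hd⟩
        rw [Nat.factorization_pow, Finsupp.smul_apply, smul_eq_mul]
        have h1 : 1 ≤ k.factorial.factorization p :=
          hp.factorization_pos_of_dvd k.factorial_ne_zero (hp.dvd_factorial.2 hpk)
        have h2 : p ^ (n - j).factorization p ≤ n - j := Nat.ordProj_le p (by omega)
        have h3 : 2 ^ (n - j).factorization p < 2 ^ 12 :=
          lt_of_le_of_lt ((Nat.pow_le_pow_left hp.two_le _).trans h2) (by omega)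
        have h4 := (Nat.pow_lt_pow_iff_right (by norm_num)).1 h3
        omega
      · rw [Nat.factorization_eq_zero_of_not_dvd hd]; exact Nat.zero_le _
    · rw [Nat.factorization_eq_zero_of_not_prime _ hp]; exact Nat.zero_le _
  exact not_smooth_of_dvd hp hpk (by omega) hj hd

/-- A bound on the upper index from counting primes. -/
def bnd (k B : ℕ) : Bool := Nat.blt (k ^ k) (B ^ (k - cnt k))

theorem lt_of_bnd {n k B : ℕ} (hk : 0 < k) (hn : 2 * k ≤ n) (hS : Smooth n k) (hc : bnd k B = true) :
    n < B := by
  have hle : n ^ (k - cnt k) ≤ k ^ k := by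
    have h1 : n ^ k ≤ k ^ k * n ^ k.primeCounting := (pow_le_mul_choose n k (by omega)).trans
      (Nat.mul_le_mul_left _ (choose_le_pow_primeCounting (by omega) (by omega) hS))
    have hπ := primeCounting_le_cnt k
    have h2 : k ^ k * n ^ k.primeCounting ≤ k ^ k * n ^ cnt k :=
      Nat.mul_le_mul_left _ (Nat.pow_le_pow_right (by omega) hπ)
    rcases le_total (cnt k) k with hle | hle
    · refine Nat.le_of_mul_le_mul_right ?_ (Nat.pow_pos (by omega) : 0 < n ^ cnt k)
      rw [← pow_add, Nat.sub_add_cancel hle]
      exact h1.trans h2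
    · rw [Nat.sub_eq_zero_of_le hle, pow_zero]
      exact Nat.one_le_pow _ _ hk
  simp only [bnd, Nat.blt_eq] at hc
  by_contra h
  exact absurd (hc.trans_le (Nat.pow_le_pow_left (not_lt.1 h) _)) (not_lt.2 hle)

/-- The check for one lower index. -/
def chk (k : ℕ) : Bool :=
  (bnd k (4 * k + 140) || k == 1) &&
    (List.range' (2 * k) (2 * k + 140)).all fun n => good n k (k.factorial ^ 12)

theorem chk_lt_48 : (List.range' 2 46).all chk = true := by decide +kernel

theorem bnd_lt_128 : (List.range' 48 80).all (fun k => bnd k (6 * k + 140)) = true := by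
  decide +kernel

theorem windows_six : windows 24 38 = true := by decide +kernel

theorem windows_seven : windows 64 128 = true := by decide +kernel

theorem windows_eight : windows 128 128 = true := by decide +kernel

theorem windows_nine : windows 256 128 = true := by decide +kernel

theorem windows_ten : windows 512 256 = true := by decide +kernel

theorem windows_eleven : windows 1024 256 = true := by decide +kernel

theorem not_smooth_lt {n k : ℕ} (hk : 0 < k) (hk' : k < 128) (hn : 2 * k ≤ n) : ¬ Smooth n k := by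
  intro hS
  rcases lt_or_ge k 2 with h1 | h1
  · obtain rfl : k = 1 := by omega
    have := hS _ (Nat.minFac_prime (show n ≠ 1 by omega)) (by rw [Nat.choose_one_right]; exact n.minFac_dvd)
    have := (Nat.minFac_prime (show n ≠ 1 by omega)).two_le
    omega
  rcases lt_or_ge k 48 with h | h
  · have hc := List.all_eq_true.1 chk_lt_48 k (List.mem_range'_1.2 ⟨h1, by omega⟩)
    simp only [chk, Bool.and_eq_true, Bool.or_eq_true, List.all_eq_true, List.mem_range'_1,
      beq_iff_eq] at hc
    have hlt : n < 4 * k + 140 := lt_of_bnd hk hn hS (hc.1.resolve_right (by omega))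
    exact not_smooth_of_good (by omega) (by omega) (hc.2 n ⟨hn, by omega⟩) hS
  · have hlt := lt_of_bnd hk hn hS (List.all_eq_true.1 bnd_lt_128 k (List.mem_range'_1.2 ⟨h, by omega⟩))
    obtain ⟨p, hp, h3, h4⟩ :=
      exists_prime_of_windows (n := n) (k := k) windows_six (by norm_num) (by omega) (by omega) (by omega)
    exact not_smooth_of_prime_window hp hn h3 h4 hS

end CfsgLib.Sylvester
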