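import Cfsg.Agent.Lib.Sylvester.Finite

/-!
The Sylvester–Schur theorem: for `0 < k` and `2 k ≤ n` some prime greater than `k` divides
`n.choose k`.
-/

set_option autoImplicit false

namespace CfsgLib.Sylvester

theorem primeCounting_thirty' (s : ℕ) : 30 * s.primeCounting ≤ 8 * s + 360 := by
  rcases lt_or_ge s 30 with h | h
  · have : s.primeCounting ≤ Nat.primeCounting 30 := Nat.monotone_primeCounting h.le
    have : Nat.primeCounting 30 ≤ 12 := by decide
    omega
  · exact primeCounting_thirty h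

theorem pow_le_of_smooth {n k : ℕ} (hk : 30 ≤ k) (hn : 2 * k ≤ n) (hS : Smooth n k) :
    n ^ (22 * k - 360) ≤ k ^ (30 * k) := by
  have h1 : n ^ k ≤ k ^ k * n ^ k.primeCounting := (pow_le_mul_choose n k (by omega)).trans
    (Nat.mul_le_mul_left _ (choose_le_pow_primeCounting (by omega) (by omega) hS))
  have h2 := Nat.pow_le_pow_left h1 30
  rw [mul_pow, ← pow_mul, ← pow_mul, ← pow_mul, mul_comm k 30, mul_comm k.primeCounting 30] at h2
  have h3 : k ^ (30 * k) * n ^ (30 * k.primeCounting) ≤ k ^ (30 * k) * n ^ (8 * k + 360) :=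
    Nat.mul_le_mul_left _ (Nat.pow_le_pow_right (by omega) (primeCounting_thirty hk))
  rcases le_total (8 * k + 360) (30 * k) with hle | hle
  · refine Nat.le_of_mul_le_mul_right ?_ (Nat.pow_pos (by omega) : 0 < n ^ (8 * k + 360))
    rw [← pow_add, show 22 * k - 360 + (8 * k + 360) = 30 * k by omega]
    exact h2.trans h3
  · rw [show 22 * k - 360 = 0 by omega, pow_zero]
    exact Nat.one_le_pow _ _ (by omega)

theorem pow_five_le {n k : ℕ} (hk : 128 ≤ k) (hn : 2 * k ≤ n) (hS : Smooth n k) :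
    n ^ 5 ≤ k ^ 8 := by
  by_contra h
  have h1 := Nat.pow_lt_pow_left (not_le.1 h) (show 22 * k - 360 ≠ 0 by omega)
  rw [← pow_mul, ← pow_mul, mul_comm 5, pow_mul n] at h1
  have h2 := h1.trans_le (Nat.pow_le_pow_left (pow_le_of_smooth (by omega) hn hS) 5)
  rw [← pow_mul] at h2
  have := (Nat.pow_lt_pow_iff_right (show 1 < k by omega)).1 h2
  omega

theorem pow_two_le {n k : ℕ} (hk : 256 ≤ k) (hn : 2 * k ≤ n) (hS : Smooth n k) :
    n ^ 2 ≤ k ^ 3 := by
  by_contra h
  have h1 := Nat.pow_lt_pow_left (not_le.1 h) (show 22 * k - 360 ≠ 0 by omega)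
  rw [← pow_mul, ← pow_mul, mul_comm 2, pow_mul n] at h1
  have h2 := h1.trans_le (Nat.pow_le_pow_left (pow_le_of_smooth (by omega) hn hS) 2)
  rw [← pow_mul] at h2
  have := (Nat.pow_lt_pow_iff_right (show 1 < k by omega)).1 h2
  omega

theorem not_smooth_of_lt_4096 {n k : ℕ} (hk : 128 ≤ k) (hk' : k < 4096) (hn : 2 * k ≤ n) :
    ¬ Smooth n k := by
  intro hS
  have key : ∀ {g c : ℕ}, windows g c = true → 0 < g → 2 * g ≤ k → n ≤ c * g → False := by
    intro g c hw hg hgk hc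
    obtain ⟨p, hp, h3, h4⟩ := exists_prime_of_windows hw hg hgk (show k ≤ n by omega) hc
    exact not_smooth_of_prime_window hp hn h3 h4 hS
  rcases lt_or_ge k 256 with h | h
  · refine key windows_seven (by norm_num) (by omega) ?_
    by_contra hc
    have h1 := Nat.pow_le_pow_left (not_le.1 hc) 5
    have h2 := Nat.pow_le_pow_left h.le 8
    have h3 := pow_five_le hk hn hS
    norm_num at h1 h2
    omega
  have h3 := pow_two_le h hn hS
  have fin : ∀ {g c K : ℕ}, windows g c = true → 0 < g → 2 * g ≤ k → k < K →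
      K ^ 3 ≤ (c * g) ^ 2 → False := fun hw hg hgk hkK hc => key hw hg hgk
    (le_of_lt ((Nat.pow_lt_pow_iff_left two_ne_zero).1
      ((h3.trans_lt (Nat.pow_lt_pow_left hkK three_ne_zero)).trans_le hc)))
  rcases lt_or_ge k 512 with h5 | h5
  · exact fin (K := 512) windows_eight (by norm_num) (by omega) h5 (by norm_num)
  rcases lt_or_ge k 1024 with h6 | h6
  · exact fin (K := 1024) windows_nine (by norm_num) (by omega) h6 (by norm_num)
  rcases lt_or_ge k 2048 with h7 | h7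
  · exact fin (K := 2048) windows_ten (by norm_num) (by omega) h7 (by norm_num)
  · exact fin (K := 4096) windows_eleven (by norm_num) (by omega) hk' (by norm_num)

theorem pow_two_bounds : ∀ b, 13 ≤ b →
    b ^ 4 ≤ 5 * 2 ^ b ∧ 90 * b ≤ 2 ^ (b - 1) ∧ 8 * (b + 3) ^ 2 ≤ 2 ^ (b - 1) := by
  intro b hb
  induction b, hb using Nat.le_induction with
  | base => norm_num
  | succ b hb ih =>
    obtain ⟨h1, h2, h3⟩ := ih
    have e : 2 ^ (b + 1 - 1) = 2 * 2 ^ (b - 1) := by
      rw [← pow_succ']; congr 1; omega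
    rw [e, pow_succ 2 b]
    have hb2 : 169 ≤ b ^ 2 := by nlinarith
    refine ⟨?_, by omega, ?_⟩
    · nlinarith [Nat.mul_le_mul_left (b ^ 2) hb2, Nat.mul_le_mul_left b hb2]
    · nlinarith

theorem not_smooth_large {n k : ℕ} (hk : 4096 ≤ k) (hn : 2 * k ≤ n) : ¬ Smooth n k := by
  intro hS
  have hn2 := pow_two_le (by omega) hn hS
  set s := n.sqrt with hs
  set t := s.primeCounting with ht
  have hπ : 30 * t ≤ 8 * s + 360 := primeCounting_thirty' s
  set b := Nat.log 2 k + 1 with hb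
  have hkb : k < 2 ^ b := Nat.lt_pow_succ_log_self one_lt_two k
  have hbk : 2 ^ (b - 1) ≤ k := by
    rw [hb, Nat.add_sub_cancel]; exact Nat.pow_log_le_self 2 (by omega)
  have hb13 : 13 ≤ b := by
    by_contra h
    have := Nat.pow_le_pow_right (show 0 < 2 by norm_num) (show b ≤ 12 by omega)
    norm_num at this
    omega
  obtain ⟨hb4, hb90, hb8⟩ := pow_two_bounds b hb13
  have hss : s * s ≤ n := Nat.sqrt_le n
  have small : ∀ j, j ≤ k → 2 * k ≤ 3 * j + 2 → n < 8 * k → 3 * j ≤ n → (j = k ∨ n < 3 * (j + 1)) →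
      False := by
    intro j hjk hj hn8 hjn hj'
    have hC : (3 * j).choose j ≤ n ^ t * 4 ^ j := ((Nat.choose_le_choose j hjn).trans
      (choose_le_choose_of_le hjk hn)).trans (choose_le_sqrt (by omega) hn hS (by omega) hj')
    have h27 : 27 ^ j ≤ 16 ^ j * (2 * (j + 1) * n ^ t) := by
      refine ((choose_three_mul_ge j).trans (Nat.mul_le_mul_left _ hC)).trans_eq ?_
      rw [show (16 : ℕ) = 4 * 4 by norm_num, mul_pow]; ring
    have h4 := Nat.pow_le_pow_left h27 4
    have h23 : (2 ^ 3 * 16 ^ 4) ^ j ≤ (27 ^ 4) ^ j := Nat.pow_le_pow_left (by norm_num) j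
    rw [mul_pow, ← pow_mul 16 j, ← pow_mul 27 j] at h4
    rw [mul_pow, ← pow_mul, ← pow_mul, ← pow_mul, mul_comm 4 j] at h23
    have h5 : 2 ^ (3 * j) ≤ (2 * (j + 1) * n ^ t) ^ 4 := by
      refine Nat.le_of_mul_le_mul_left ?_ (Nat.pow_pos (by norm_num) : 0 < 16 ^ (j * 4))
      rw [mul_comm]; exact h23.trans h4
    have hn' : n ≤ 2 ^ (b + 3) := by rw [pow_add]; norm_num; omega
    have hj2 : 2 * (j + 1) ≤ 2 ^ (b + 1) := by rw [pow_succ]; omega
    have h6 := h5.trans (Nat.pow_le_pow_left (Nat.mul_le_mul hj2 (Nat.pow_le_pow_left hn' t)) 4)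
    rw [← pow_mul, ← pow_add, ← pow_mul] at h6
    have h7 := (Nat.pow_le_pow_iff_right (show 1 < 2 by norm_num)).1 h6
    have hsb : (b + 3) * s ≤ k := by
      refine (Nat.pow_le_pow_iff_left two_ne_zero).1 ?_
      calc ((b + 3) * s) ^ 2 = (b + 3) ^ 2 * (s * s) := by ring
        _ ≤ (b + 3) ^ 2 * (8 * k) := Nat.mul_le_mul_left _ (by omega)
        _ = 8 * (b + 3) ^ 2 * k := by ring
        _ ≤ k * k := Nat.mul_le_mul_right k (hb8.trans hbk)
        _ = k ^ 2 := by ring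
    have h16 : 128 * (b + 3) ≤ k := by nlinarith
    have := Nat.mul_le_mul_left (b + 3) hπ
    nlinarith
  rcases lt_or_ge n (3 * k) with h3 | h3
  · exact small (n / 3) (by omega) (by omega) (by omega) (by omega) (Or.inr (by omega))
  rcases lt_or_ge n (8 * k) with h8 | h8
  · exact small k le_rfl (by omega) h8 h3 (Or.inl rfl)
  -- far from the middle
  have h1 : n ^ k ≤ k ^ k * (n ^ t * 4 ^ k) := (pow_le_mul_choose n k (by omega)).trans
    (Nat.mul_le_mul_left _ (choose_le_sqrt (by omega) hn hS (by omega) (Or.inl rfl)))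
  have h2 : 2 ^ k ≤ n ^ t := by
    refine Nat.le_of_mul_le_mul_left ?_ (Nat.pow_pos (by omega) : 0 < (4 * k) ^ k)
    calc (4 * k) ^ k * 2 ^ k = (8 * k) ^ k := by rw [← mul_pow]; ring
      _ ≤ n ^ k := Nat.pow_le_pow_left h8 k
      _ ≤ _ := h1.trans_eq (by rw [mul_pow]; ring)
  have h4 : 2 ^ (2 * k) ≤ 2 ^ (3 * b * t) := by
    calc 2 ^ (2 * k) = (2 ^ k) ^ 2 := by rw [← pow_mul, mul_comm]
      _ ≤ (n ^ t) ^ 2 := Nat.pow_le_pow_left h2 2
      _ = (n ^ 2) ^ t := by rw [← pow_mul, ← pow_mul, mul_comm]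
      _ ≤ ((2 ^ b) ^ 3) ^ t := Nat.pow_le_pow_left (hn2.trans (Nat.pow_le_pow_left hkb.le 3)) t
      _ = _ := by rw [← pow_mul, ← pow_mul]; ring
  have h5 := (Nat.pow_le_pow_iff_right (show 1 < 2 by norm_num)).1 h4
  have h6 : 20 * k ≤ b * (8 * s + 360) := by
    have := Nat.mul_le_mul_left b hπ
    nlinarith
  rcases lt_or_ge s 180 with h | h
  · have : b * (8 * s + 360) ≤ b * 1799 := Nat.mul_le_mul_left b (by omega)
    omega
  · have hs4 : s ^ 4 ≤ k ^ 3 := (by
      calc s ^ 4 = (s * s) ^ 2 := by ring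
        _ ≤ n ^ 2 := Nat.pow_le_pow_left hss 2
        _ ≤ k ^ 3 := hn2)
    have hb' : b ^ 4 ≤ 10 * k := by
      have : 2 ^ b = 2 * 2 ^ (b - 1) := by rw [← pow_succ', Nat.sub_add_cancel (by omega : 1 ≤ b)]
      omega
    have h7 : 20 * k ≤ 10 * (b * s) := h6.trans (by nlinarith)
    have h8' : (20 * k) ^ 4 ≤ 100000 * k ^ 4 := by
      calc (20 * k) ^ 4 ≤ (10 * (b * s)) ^ 4 := Nat.pow_le_pow_left h7 4
        _ = 10000 * (b ^ 4 * s ^ 4) := by ring
        _ ≤ 10000 * (10 * k * k ^ 3) := Nat.mul_le_mul_left _ (Nat.mul_le_mul hb' hs4)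
        _ = _ := by ring
    have : 0 < k ^ 4 := Nat.pow_pos (by omega)
    nlinarith

/-- **Sylvester–Schur**. -/
theorem exists_prime_gt_dvd_choose {n k : ℕ} (hk : 0 < k) (hn : 2 * k ≤ n) :
    ∃ p, p.Prime ∧ k < p ∧ p ∣ n.choose k := by
  by_contra h
  have hS : Smooth n k := fun p hp hd => not_lt.1 fun hlt => h ⟨p, hp, hlt, hd⟩
  rcases lt_or_ge k 128 with h1 | h1
  · exact not_smooth_lt hk h1 hn hS
  rcases lt_or_ge k 4096 with h2 | h2
  · exact not_smooth_of_lt_4096 h1 h2 hn hS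
  · exact not_smooth_large h2 hn hS

end CfsgLib.Sylvester
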